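import Cfsg.Agent.Lib.Helper58.WrSyl.Defs
import Cfsg.Agent.S0261

set_option autoImplicit false
open Cfsg
open scoped MatrixGroups commutatorElement

namespace Cfsg.Agent.Lib.Helper60.WrSyl

open Cfsg.Agent.Lib.Helper58.WrSyl

/-- images of commutator elements under a hom -/
theorem map_mem_commutator {H K : Type*} [Group H] [Group K] (f : H →* K) {x : H}
    (hx : x ∈ commutator H) : f x ∈ commutator K := by
  have h1 : (commutator H).map f ≤ commutator K := by
    rw [commutator_def, commutator_def, Subgroup.map_commutator]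
    exact Subgroup.commutator_mono le_top le_top
  exact h1 (Subgroup.mem_map_of_mem f hx)

theorem powComm_of_equiv {p : ℕ} {H K : Type*} [Group H] [Group K] (e : H ≃* K)
    (h : PowComm p H) : PowComm p K := by
  intro x
  have h1 := map_mem_commutator e.toMonoidHom (h (e.symm x))
  simpa using h1

theorem powComm_quaternion (k : ℕ) (hk : 1 ≤ k) : PowComm 2 (QuaternionGroup (2 ^ k)) := by
  have h2 : (QuaternionGroup.a 2 : QuaternionGroup (2 ^ k)) ∈ commutator (QuaternionGroup (2 ^ k)) := by
    have h3 : ⁅(QuaternionGroup.a 1 : QuaternionGroup (2 ^ k)),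
        (QuaternionGroup.xa 0 : QuaternionGroup (2 ^ k))⁆ =
        QuaternionGroup.a 2 := by
      have hi1 : (QuaternionGroup.a 1 : QuaternionGroup (2 ^ k))⁻¹ = QuaternionGroup.a (-1) := rfl
      have hi2 : (QuaternionGroup.xa 0 : QuaternionGroup (2 ^ k))⁻¹ =
          QuaternionGroup.xa (((2 ^ k : ℕ) : ZMod (2 * 2 ^ k)) + 0) := rfl
      rw [commutatorElement_def, hi1, hi2]
      simp only [QuaternionGroup.a_mul_xa,
        QuaternionGroup.xa_mul_a, QuaternionGroup.xa_mul_xa]
      congr 1
      have h4 : ((2 ^ k : ℕ) : ZMod (2 * 2 ^ k)) + ((2 ^ k : ℕ) : ZMod (2 * 2 ^ k)) = 0 := by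
        rw [← Nat.cast_add, ← two_mul]
        exact ZMod.natCast_self _
      linear_combination h4
    rw [← h3, commutator_def]
    exact Subgroup.commutator_mem_commutator (Subgroup.mem_top _) (Subgroup.mem_top _)
  have h5 : ∀ j : ℕ, (QuaternionGroup.a (2 * (j : ZMod (2 * 2 ^ k))) : QuaternionGroup (2 ^ k)) ∈
      commutator (QuaternionGroup (2 ^ k)) := by
    intro j
    have h6 : (QuaternionGroup.a 2 : QuaternionGroup (2 ^ k)) ^ j =
        QuaternionGroup.a (2 * (j : ZMod (2 * 2 ^ k))) := by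
      induction j with
      | zero => simp
      | succ j ih =>
        rw [pow_succ, ih, QuaternionGroup.a_mul_a]
        congr 1
        push_cast
        ring
    rw [← h6]
    exact Subgroup.pow_mem _ h2 j
  have : NeZero (2 * 2 ^ k) := ⟨by positivity⟩
  intro x
  rcases x with i | i
  · have h7 : (QuaternionGroup.a i : QuaternionGroup (2 ^ k)) ^ 2 =
        QuaternionGroup.a (2 * ((i.val : ℕ) : ZMod (2 * 2 ^ k))) := by
      rw [pow_two, QuaternionGroup.a_mul_a, ZMod.natCast_zmod_val]
      congr 1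
      ring
    rw [h7]
    exact h5 _
  · have h7 : (QuaternionGroup.xa i : QuaternionGroup (2 ^ k)) ^ 2 =
        QuaternionGroup.a (2 * ((2 ^ (k - 1) : ℕ) : ZMod (2 * 2 ^ k))) := by
      rw [pow_two, QuaternionGroup.xa_mul_xa]
      congr 1
      obtain ⟨m, rfl⟩ : ∃ m, k = m + 1 := ⟨k - 1, by omega⟩
      simp only [Nat.add_sub_cancel]
      push_cast
      ring
    rw [h7]
    exact h5 _

/-- [B1] -/
theorem powComm_sl2 {F : Type*} [Field F] [Fintype F] (hF : Odd (Fintype.card F))
    (Q : Sylow 2 (Matrix.SpecialLinearGroup (Fin 2) F)) :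
    PowComm 2 (Q : Subgroup (Matrix.SpecialLinearGroup (Fin 2) F)) := by
  obtain ⟨k, hk, ⟨e⟩⟩ := Cfsg.Agent.S0261.result hF Q
  exact powComm_of_equiv e.symm (powComm_quaternion k hk)

end Cfsg.Agent.Lib.Helper60.WrSyl
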