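import Mathlib

set_option autoImplicit false
open scoped MatrixGroups

namespace Cfsg.Agent.Lib.Helper60.WrSyl

variable {F : Type*} [Field F]

theorem ch2 (A : Matrix (Fin 2) (Fin 2) F) : A * A = A.trace • A - A.det • (1 : Matrix (Fin 2) (Fin 2) F) := by
  ext i j
  fin_cases i <;> fin_cases j <;>
    simp [Matrix.det_fin_two, Matrix.trace_fin_two, Matrix.mul_apply, Fin.sum_univ_two] <;> ring

theorem smul_one_sq (c : F) : (c • (1 : Matrix (Fin 2) (Fin 2) F)) * (c • 1) = (c * c) • 1 := by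
  rw [Matrix.smul_mul, Matrix.mul_smul, mul_one, smul_smul]

theorem smul_one_inj2 {c d : F} (h : c • (1 : Matrix (Fin 2) (Fin 2) F) = d • 1) : c = d := by
  have := congrFun (congrFun h 0) 0
  simpa using this

theorem invol_cases (A : Matrix (Fin 2) (Fin 2) F) (hA : A * A = 1) :
    A = 1 ∨ A = -1 ∨ (A.trace = 0 ∧ A.det = -1) := by
  have h := ch2 A
  rw [hA] at h
  by_cases ht : A.trace = 0
  · right; right
    refine ⟨ht, ?_⟩
    rw [ht, zero_smul, zero_sub] at h
    have h1 : (1 : F) • (1 : Matrix (Fin 2) (Fin 2) F) = (-A.det) • 1 := by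
      rw [one_smul, neg_smul]; exact h
    have := smul_one_inj2 h1
    linear_combination this
  · have h1 : A = ((1 + A.det) / A.trace) • (1 : Matrix (Fin 2) (Fin 2) F) := by
      have h2 : A.trace • A = (1 + A.det) • (1 : Matrix (Fin 2) (Fin 2) F) := by
        rw [add_smul, one_smul]
        nth_rewrite 1 [h]
        abel
      rw [div_eq_inv_mul, ← smul_smul, ← h2, smul_smul, inv_mul_cancel₀ ht, one_smul]
    set c := (1 + A.det) / A.trace with hc
    have h3 : c * c = 1 := by
      have h4 : (c * c) • (1 : Matrix (Fin 2) (Fin 2) F) = (1 : F) • 1 := by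
        rw [← smul_one_sq, ← h1, hA, one_smul]
      exact smul_one_inj2 h4
    rcases mul_self_eq_one_iff.mp h3 with h5 | h5
    · left; rw [h1, h5, one_smul]
    · right; left; rw [h1, h5, neg_smul, one_smul]

theorem sl_invol (h2 : (2 : F) ≠ 0) (A : Matrix (Fin 2) (Fin 2) F) (hA : A * A = 1)
    (hd : A.det = 1) : A = 1 ∨ A = -1 := by
  rcases invol_cases A hA with h | h | ⟨_, h⟩
  · exact Or.inl h
  · exact Or.inr h
  · exfalso
    apply h2
    rw [hd] at h
    linear_combination h

theorem two_ne_zero_of_card [Fintype F] (hF : Fintype.card F % 4 = 3) : (2 : F) ≠ 0 := by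
  intro h
  have h1 : ringChar F = 2 := by
    have h2 : ringChar F ∣ 2 := by
      rw [← ringChar.spec]; exact_mod_cast h
    rcases (Nat.dvd_prime Nat.prime_two).mp h2 with h3 | h3
    · exact absurd h3 (CharP.ringChar_ne_one)
    · exact h3
  have h4 := FiniteField.even_card_of_char_two h1
  omega

theorem no_sq_neg_one [Fintype F] (hF : Fintype.card F % 4 = 3) (c : F) : c * c ≠ -1 := by
  intro h
  have h1 : IsSquare (-1 : F) := ⟨c, h.symm⟩
  exact (FiniteField.isSquare_neg_one_iff.mp h1) hF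

theorem no_quarter [Fintype F] (hF : Fintype.card F % 4 = 3) (A : Matrix (Fin 2) (Fin 2) F)
    (hA : A * A = -1) (hd : A.det = -1) : False := by
  have h2 := two_ne_zero_of_card hF
  have h := ch2 A
  rw [hA, hd] at h
  have h1 : A.trace • A = (-2 : F) • (1 : Matrix (Fin 2) (Fin 2) F) := by
    have : A.trace • A = -1 + (-1 : F) • (1 : Matrix (Fin 2) (Fin 2) F) := by
      rw [h]; abel
    rw [this, neg_smul, one_smul, neg_smul, two_smul]; abel
  have ht : A.trace ≠ 0 := by
    intro ht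
    rw [ht, zero_smul] at h1
    have h3 : (0 : F) • (1 : Matrix (Fin 2) (Fin 2) F) = (-2 : F) • 1 := by rw [zero_smul]; exact h1
    have := smul_one_inj2 h3
    apply h2
    linear_combination this
  have h4 : A = ((-2) / A.trace) • (1 : Matrix (Fin 2) (Fin 2) F) := by
    rw [div_eq_inv_mul, ← smul_smul, ← h1, smul_smul, inv_mul_cancel₀ ht, one_smul]
  set c := (-2) / A.trace with hc
  have h5 : (c * c) • (1 : Matrix (Fin 2) (Fin 2) F) = (-1 : F) • 1 := by
    rw [← smul_one_sq, ← h4, hA, neg_smul, one_smul]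
  exact no_sq_neg_one hF c (smul_one_inj2 h5)

/-- elements of determinant 1 and 2-power order commuting with a non-central involution -/
theorem cent_invol [Fintype F] (hF : Fintype.card F % 4 = 3) (e : Matrix (Fin 2) (Fin 2) F)
    (he : e * e = 1) (hde : e.det = -1) (k : ℕ) :
    ∀ g : Matrix (Fin 2) (Fin 2) F, g.det = 1 → g * e = e * g → g ^ (2 ^ k) = 1 →
      g = 1 ∨ g = -1 := by
  have h2 := two_ne_zero_of_card hF
  induction k with
  | zero => intro g _ _ h; left; simpa using h
  | succ k ih =>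
    intro g hd hc hg
    have h1 : (g * g) ^ (2 ^ k) = 1 := by
      rw [← pow_two, ← pow_mul, ← pow_succ']; exact hg
    have h3 : (g * g) * e = e * (g * g) := by
      rw [mul_assoc, hc, ← mul_assoc, hc, mul_assoc]
    rcases ih (g * g) (by rw [Matrix.det_mul, hd, one_mul]) h3 h1 with h4 | h4
    · exact sl_invol h2 g h4 hd
    · exfalso
      apply no_quarter hF (g * e)
      · calc g * e * (g * e) = g * (e * g) * e := by simp only [mul_assoc]
          _ = g * (g * e) * e := by rw [hc]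
          _ = (g * g) * (e * e) := by simp only [mul_assoc]
          _ = -1 := by rw [h4, he, mul_one]
      · rw [Matrix.det_mul, hd, hde, one_mul]

theorem units_sq_eq_one [Fintype F] (hF : Fintype.card F % 4 = 3) (d : Fˣ) (k : ℕ)
    (h : d ^ (2 ^ k) = 1) : d ^ 2 = 1 := by
  classical
  obtain ⟨a, ha⟩ : ∃ a, Fintype.card F = 4 * a + 3 := ⟨Fintype.card F / 4, by omega⟩
  have h1 : d ^ (Fintype.card Fˣ) = 1 := pow_card_eq_one
  rw [Fintype.card_units, ha] at h1
  have h2 : (d ^ 2) ^ (2 * a + 1) = 1 := by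
    rw [← pow_mul]
    have : 2 * (2 * a + 1) = 4 * a + 3 - 1 := by omega
    rw [this]; exact h1
  have h3 : (d ^ 2) ^ (2 ^ k) = 1 := by
    rw [← pow_mul, mul_comm, pow_mul, h, one_pow]
  have h4 : orderOf (d ^ 2) ∣ Nat.gcd (2 * a + 1) (2 ^ k) :=
    Nat.dvd_gcd (orderOf_dvd_of_pow_eq_one h2) (orderOf_dvd_of_pow_eq_one h3)
  have h5 : Nat.gcd (2 * a + 1) (2 ^ k) = 1 := by
    apply Nat.Coprime.pow_right
    rw [Nat.coprime_comm, Nat.coprime_two_left]
    exact ⟨a, rfl⟩
  rw [h5, Nat.dvd_one, orderOf_eq_one_iff] at h4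
  exact h4

theorem det_pm_one [Fintype F] (hF : Fintype.card F % 4 = 3) (g : GL (Fin 2) F) (k : ℕ)
    (h : g ^ (2 ^ k) = 1) :
    (g : Matrix (Fin 2) (Fin 2) F).det = 1 ∨ (g : Matrix (Fin 2) (Fin 2) F).det = -1 := by
  have h1 : (Matrix.GeneralLinearGroup.det g) ^ (2 ^ k) = 1 := by
    rw [← map_pow, h, map_one]
  have h2 := units_sq_eq_one hF _ k h1
  have h3 : ((Matrix.GeneralLinearGroup.det g : Fˣ) : F) = (g : Matrix (Fin 2) (Fin 2) F).det := rfl
  have h4 : (g : Matrix (Fin 2) (Fin 2) F).det * (g : Matrix (Fin 2) (Fin 2) F).det = 1 := by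
    rw [← h3, ← pow_two, ← Units.val_pow_eq_pow_val, h2, Units.val_one]
  exact mul_self_eq_one_iff.mp h4

end Cfsg.Agent.Lib.Helper60.WrSyl
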