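import Cfsg.Agent.Lib.Helper58.WrSyl.Defs
import Cfsg.Agent.Lib.Helper60.WrSyl.M2
import Cfsg.Agent.Lib.Helper60.WrSyl.B1
import Cfsg.Agent.Lib.Helper64.Sylow

set_option autoImplicit false
open Cfsg
open scoped MatrixGroups

namespace Cfsg.Agent.Lib.Helper60.WrSyl

open Cfsg.Agent.Lib.Helper58.WrSyl

/-- the subgroup of the elements whose `p`-th power is a product of commutators -/
noncomputable def powKer (p : ℕ) (K : Type*) [Group K] : Subgroup K :=
  ((powMonoidHom p).comp (Abelianization.of (G := K))).ker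

theorem mem_powKer {p : ℕ} {K : Type*} [Group K] (x : K) :
    x ∈ powKer p K ↔ x ^ p ∈ commutator K := by
  rw [powKer, MonoidHom.mem_ker, ← Abelianization.ker_of K, MonoidHom.mem_ker, map_pow]
  rfl

variable {F : Type*} [Field F]

theorem range_toGL_eq :
    (Matrix.SpecialLinearGroup.toGL : Matrix.SpecialLinearGroup (Fin 2) F →* GL (Fin 2) F).range =
      (Matrix.GeneralLinearGroup.det : GL (Fin 2) F →* Fˣ).ker := by
  ext x
  rw [MonoidHom.mem_range, MonoidHom.mem_ker]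
  constructor
  · rintro ⟨y, rfl⟩
    exact Units.ext y.2
  · intro h
    exact ⟨⟨x, congrArg Units.val h⟩, Units.ext rfl⟩

theorem exists_refl_gl2 : ∃ t : GL (Fin 2) F, t * t = 1 ∧ (t : Matrix (Fin 2) (Fin 2) F).det = -1 := by
  have h : (!![1, 0; 0, -1] : Matrix (Fin 2) (Fin 2) F) * !![1, 0; 0, -1] = 1 := by
    simp [Matrix.one_fin_two]
  refine ⟨⟨!![1, 0; 0, -1], !![1, 0; 0, -1], h, h⟩, Units.ext h, ?_⟩
  simp [Matrix.det_fin_two]

theorem powComm_gl2_aux [Fintype F] (hF : Fintype.card F % 4 = 3) (Q : Sylow 2 (GL (Fin 2) F))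
    (t : GL (Fin 2) F) (ht : t * t = 1) (htd : (t : Matrix (Fin 2) (Fin 2) F).det = -1)
    (htQ : t ∈ Q) : PowComm 2 (Q : Subgroup (GL (Fin 2) F)) := by
  have hodd : Odd (Fintype.card F) := by
    rw [Nat.odd_iff]; omega
  set ι : Matrix.SpecialLinearGroup (Fin 2) F →* GL (Fin 2) F := Matrix.SpecialLinearGroup.toGL with hι
  have hinj : Function.Injective ι := Matrix.SpecialLinearGroup.toGL_injective
  have hnorm : ι.range.Normal := by
    rw [hι, range_toGL_eq]; infer_instance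
  set K0 : Subgroup (Matrix.SpecialLinearGroup (Fin 2) F) := (Q : Subgroup (GL (Fin 2) F)).comap ι with hK0
  have hp : IsPGroup 2 K0 := Q.2.comap_of_injective ι hinj
  have hidx : ¬ 2 ∣ K0.index := by
    rw [hK0, Subgroup.index_comap]
    intro h
    exact Q.not_dvd_index (h.trans
      (Cfsg.Agent.Lib.Helper64.relIndex_dvd_index_of_normal_right (Q : Subgroup (GL (Fin 2) F)) ι.range))
  obtain ⟨P, hP⟩ : ∃ P : Sylow 2 (Matrix.SpecialLinearGroup (Fin 2) F),
      (P : Subgroup (Matrix.SpecialLinearGroup (Fin 2) F)) = K0 := ⟨hp.toSylow hidx, rfl⟩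
  have hPC := powComm_sl2 hodd P
  rw [hP] at hPC
  let φ : K0 →* (Q : Subgroup (GL (Fin 2) F)) :=
    (ι.comp K0.subtype).codRestrict (Q : Subgroup (GL (Fin 2) F)) (fun y => y.2)
  have hdet1 : ∀ x : (Q : Subgroup (GL (Fin 2) F)),
      ((x : GL (Fin 2) F) : Matrix (Fin 2) (Fin 2) F).det = 1 →
      x ∈ powKer 2 (Q : Subgroup (GL (Fin 2) F)) := by
    intro x hx
    rw [mem_powKer]
    obtain ⟨y, hy⟩ : ∃ y : Matrix.SpecialLinearGroup (Fin 2) F, ι y = (x : GL (Fin 2) F) :=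
      ⟨⟨((x : GL (Fin 2) F) : Matrix (Fin 2) (Fin 2) F), hx⟩, Units.ext rfl⟩
    have hyK : y ∈ K0 := by
      rw [hK0, Subgroup.mem_comap, hy]; exact x.2
    have h1 := map_mem_commutator φ (hPC ⟨y, hyK⟩)
    have h2 : φ ⟨y, hyK⟩ = x := Subtype.ext hy
    rw [map_pow, h2] at h1
    exact h1
  have htK : (⟨t, htQ⟩ : (Q : Subgroup (GL (Fin 2) F))) ∈ powKer 2 (Q : Subgroup (GL (Fin 2) F)) := by
    rw [mem_powKer]
    have : (⟨t, htQ⟩ : (Q : Subgroup (GL (Fin 2) F))) ^ 2 = 1 := by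
      rw [pow_two]; exact Subtype.ext ht
    rw [this]; exact Subgroup.one_mem _
  intro x
  rw [← mem_powKer]
  obtain ⟨k, hk⟩ := Q.2 x
  have hk' : (x : GL (Fin 2) F) ^ (2 ^ k) = 1 := by
    have := congrArg Subtype.val hk
    simpa using this
  rcases det_pm_one hF (x : GL (Fin 2) F) k hk' with h | h
  · exact hdet1 x h
  · have h1 : x * ⟨t, htQ⟩ ∈ powKer 2 (Q : Subgroup (GL (Fin 2) F)) := by
      apply hdet1
      change ((x : GL (Fin 2) F) * t : GL (Fin 2) F).val.det = 1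
      rw [Units.val_mul, Matrix.det_mul, h, htd]; ring
    have h2 : x = (x * ⟨t, htQ⟩) * ⟨t, htQ⟩ := by
      rw [mul_assoc]
      have : (⟨t, htQ⟩ : (Q : Subgroup (GL (Fin 2) F))) * ⟨t, htQ⟩ = 1 := Subtype.ext ht
      rw [this, mul_one]
    rw [h2]
    exact Subgroup.mul_mem _ h1 htK

/-- [B2] -/
theorem powComm_gl2 {F : Type*} [Field F] [Fintype F] (hF : Fintype.card F % 4 = 3)
    (Q : Sylow 2 (GL (Fin 2) F)) : PowComm 2 (Q : Subgroup (GL (Fin 2) F)) := by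
  obtain ⟨t, ht, htd⟩ := exists_refl_gl2 (F := F)
  have hp : IsPGroup 2 (Subgroup.zpowers t) := by
    rintro ⟨g, hg⟩
    obtain ⟨n, rfl⟩ := Subgroup.mem_zpowers_iff.mp hg
    refine ⟨1, Subtype.ext ?_⟩
    change (t ^ n) ^ (2 ^ 1) = 1
    rw [pow_one, ← zpow_natCast, ← zpow_mul, mul_comm, zpow_mul, zpow_natCast, pow_two, ht, one_zpow]
  obtain ⟨Qs, hQs⟩ := hp.exists_le_sylow
  have h1 := powComm_gl2_aux hF Qs t ht htd (hQs (Subgroup.mem_zpowers t))
  exact powComm_of_equiv (Sylow.equiv Qs Q) h1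

end Cfsg.Agent.Lib.Helper60.WrSyl
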