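import Cfsg.Agent.Lib.Helper58.WrSyl.Defs
import Cfsg.Agent.Lib.Helper60.WrSyl.M2

set_option autoImplicit false
open Cfsg
open scoped MatrixGroups

namespace Cfsg.Agent.Lib.Helper60.WrSyl

open Cfsg.Agent.Lib.Helper58.WrSyl

variable {F : Type*} [Field F] [Fintype F]

theorem card_le_eight (hF : Fintype.card F % 4 = 3) (Q : Subgroup (GL (Fin 2) F))
    (hQ : IsPGroup 2 Q) (e : GL (Fin 2) F) (he : e * e = 1)
    (hde : (e : Matrix (Fin 2) (Fin 2) F).det = -1)
    (hconj : ∀ g ∈ Q, g * e * g⁻¹ = e ∨ g * e * g⁻¹ = -e) : Nat.card Q ≤ 8 := by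
  classical
  have : Fintype Q := Fintype.ofFinite _
  rw [Nat.card_eq_fintype_card, ← Finset.card_univ]
  let f : Q → F × GL (Fin 2) F := fun g =>
    (((g : GL (Fin 2) F) : Matrix (Fin 2) (Fin 2) F).det, (g : GL (Fin 2) F) * e * (g : GL (Fin 2) F)⁻¹)
  have hmaps : ∀ a ∈ (Finset.univ : Finset Q), f a ∈ (({1, -1} : Finset F) ×ˢ ({e, -e} : Finset (GL (Fin 2) F))) := by
    intro a _
    obtain ⟨k, hk⟩ := hQ a
    have hk' : (a : GL (Fin 2) F) ^ (2 ^ k) = 1 := by
      have := congrArg Subtype.val hk
      simpa using this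
    have h1 := det_pm_one hF (a : GL (Fin 2) F) k hk'
    have h2 := hconj a a.2
    simp only [f, Finset.mem_product, Finset.mem_insert, Finset.mem_singleton]
    exact ⟨h1, h2⟩
  have hfib : ∀ b ∈ (({1, -1} : Finset F) ×ˢ ({e, -e} : Finset (GL (Fin 2) F))),
      (Finset.univ.filter (fun a : Q => f a = b)).card ≤ 2 := by
    intro b _
    by_cases hne : (Finset.univ.filter (fun a : Q => f a = b)).Nonempty
    · obtain ⟨g0, hg0⟩ := hne
      rw [Finset.mem_filter] at hg0
      have hg0' := hg0.2
      calc (Finset.univ.filter (fun a : Q => f a = b)).card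
          ≤ ({1, -1} : Finset (GL (Fin 2) F)).card := by
            apply Finset.card_le_card_of_injOn (fun x : Q => (g0 : GL (Fin 2) F)⁻¹ * (x : GL (Fin 2) F))
            · intro x hx
              have hx' : f x = b := by
                have := Finset.mem_coe.mp hx
                exact (Finset.mem_filter.mp this).2
              rw [← hg0'] at hx'
              have hx1 : ((x : GL (Fin 2) F) : Matrix (Fin 2) (Fin 2) F).det =
                  ((g0 : GL (Fin 2) F) : Matrix (Fin 2) (Fin 2) F).det := congrArg Prod.fst hx'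
              have hx2 : (x : GL (Fin 2) F) * e * (x : GL (Fin 2) F)⁻¹ =
                  (g0 : GL (Fin 2) F) * e * (g0 : GL (Fin 2) F)⁻¹ := congrArg Prod.snd hx'
              set y : GL (Fin 2) F := (g0 : GL (Fin 2) F)⁻¹ * (x : GL (Fin 2) F) with hy
              have hyQ : y ∈ Q := Q.mul_mem (Q.inv_mem g0.2) x.2
              obtain ⟨k, hk⟩ := hQ ⟨y, hyQ⟩
              have hk' : y ^ (2 ^ k) = 1 := by
                have := congrArg Subtype.val hk
                simpa using this
              have hdet : (y : Matrix (Fin 2) (Fin 2) F).det = 1 := by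
                have h3 : Matrix.GeneralLinearGroup.det y = 1 := by
                  have h4 : Matrix.GeneralLinearGroup.det (x : GL (Fin 2) F) =
                      Matrix.GeneralLinearGroup.det (g0 : GL (Fin 2) F) := Units.ext hx1
                  rw [hy, map_mul, map_inv, h4, inv_mul_cancel]
                exact congrArg Units.val h3
              have hcomm : y * e = e * y := by
                have h5 : y * e * y⁻¹ = e := by
                  rw [hy, mul_inv_rev, inv_inv]
                  calc (g0 : GL (Fin 2) F)⁻¹ * x * e * ((x : GL (Fin 2) F)⁻¹ * g0)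
                      = (g0 : GL (Fin 2) F)⁻¹ * ((x : GL (Fin 2) F) * e * (x : GL (Fin 2) F)⁻¹) * g0 := by
                        group
                    _ = e := by rw [hx2]; group
                calc y * e = y * e * y⁻¹ * y := by group
                  _ = e * y := by rw [h5]
              have hres := cent_invol hF (e : Matrix (Fin 2) (Fin 2) F)
                (by rw [← Units.val_mul, he, Units.val_one]) hde k
                (y : Matrix (Fin 2) (Fin 2) F) hdet
                (by rw [← Units.val_mul, hcomm, Units.val_mul])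
                (by rw [← Units.val_pow_eq_pow_val, hk', Units.val_one])
              simp only [Finset.coe_insert, Finset.coe_singleton, Set.mem_insert_iff,
                Set.mem_singleton_iff]
              rcases hres with h | h
              · left; exact Units.ext h
              · right; exact Units.ext (by rw [h]; simp)
            · intro x _ x' _ hxx
              exact Subtype.ext (mul_left_cancel hxx)
        _ ≤ 2 := Finset.card_le_two
    · rw [Finset.not_nonempty_iff_eq_empty] at hne
      rw [hne]; simp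
  calc (Finset.univ : Finset Q).card
      ≤ 2 * (({1, -1} : Finset F) ×ˢ ({e, -e} : Finset (GL (Fin 2) F))).card :=
        Finset.card_le_mul_card_image_of_maps_to hmaps 2 hfib
    _ ≤ 2 * (2 * 2) := by
        rw [Finset.card_product]
        exact Nat.mul_le_mul_left _ (Nat.mul_le_mul Finset.card_le_two Finset.card_le_two)
    _ = 8 := by norm_num

theorem sixteen_dvd_card_gl2 (hF : Fintype.card F % 4 = 3) : 2 ^ 4 ∣ Nat.card (GL (Fin 2) F) := by
  rw [Matrix.card_GL_field, Fin.prod_univ_two]
  obtain ⟨a, ha⟩ : ∃ a, Fintype.card F = 4 * a + 3 := ⟨Fintype.card F / 4, by omega⟩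
  rw [ha]
  simp only [Fin.val_zero, Fin.val_one, pow_zero, pow_one]
  have h1 : (4 * a + 3) ^ 2 - 1 = 8 * ((2 * a + 1) * (a + 1)) := by
    have : (4 * a + 3) ^ 2 = 8 * ((2 * a + 1) * (a + 1)) + 1 := by ring
    omega
  have h2 : (4 * a + 3) ^ 2 - (4 * a + 3) = 2 * ((4 * a + 3) * (2 * a + 1)) := by
    have : (4 * a + 3) ^ 2 = 2 * ((4 * a + 3) * (2 * a + 1)) + (4 * a + 3) := by ring
    omega
  rw [h1, h2]
  exact ⟨((2 * a + 1) * (a + 1)) * ((4 * a + 3) * (2 * a + 1)), by ring⟩

theorem neaLE_gl2_aux (hF : Fintype.card F % 4 = 3)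
    (Q : Sylow 2 (GL (Fin 2) F)) : NEAle 2 1 (Q : Subgroup (GL (Fin 2) F)) := by
  classical
  have h2 := two_ne_zero_of_card hF
  intro E hE hEA
  by_contra hcard
  rw [not_le] at hcard
  have h16 : 2 ^ 4 ∣ Nat.card (Q : Subgroup (GL (Fin 2) F)) :=
    Q.pow_dvd_card_of_pow_dvd_card (sixteen_dvd_card_gl2 hF)
  have h16' : 16 ≤ Nat.card (Q : Subgroup (GL (Fin 2) F)) :=
    Nat.le_of_dvd Nat.card_pos h16
  -- a non-scalar element
  obtain ⟨e, heE, he1, he2⟩ : ∃ e : (Q : Subgroup (GL (Fin 2) F)), e ∈ E ∧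
      (e : GL (Fin 2) F) ≠ 1 ∧ (e : GL (Fin 2) F) ≠ -1 := by
    by_contra hno
    push Not at hno
    have hmem : ∀ x : E, ((x : (Q : Subgroup (GL (Fin 2) F))) : GL (Fin 2) F) ∈
        ({1, -1} : Finset (GL (Fin 2) F)) := by
      intro x
      simp only [Finset.mem_insert, Finset.mem_singleton]
      by_cases h : ((x : (Q : Subgroup (GL (Fin 2) F))) : GL (Fin 2) F) = 1
      · exact Or.inl h
      · exact Or.inr (hno x x.2 h)
    have hle : Nat.card E ≤ Nat.card ({1, -1} : Finset (GL (Fin 2) F)) :=
      Nat.card_le_card_of_injective (fun x : E => ⟨_, hmem x⟩) (by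
        intro x y hxy
        have := congrArg Subtype.val hxy
        exact Subtype.ext (Subtype.ext this))
    have hc2 : Nat.card ({1, -1} : Finset (GL (Fin 2) F)) = ({1, -1} : Finset (GL (Fin 2) F)).card := by
      rw [Nat.card_eq_fintype_card, Fintype.card_coe]
    rw [hc2] at hle
    have := hle.trans Finset.card_le_two
    rw [pow_one] at hcard
    omega
  have hee : (e : GL (Fin 2) F) * (e : GL (Fin 2) F) = 1 := by
    have h3 := hEA.2 e heE
    have := congrArg Subtype.val h3
    rw [pow_two] at this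
    simpa using this
  have heeM : ((e : GL (Fin 2) F) : Matrix (Fin 2) (Fin 2) F) * ((e : GL (Fin 2) F) : Matrix (Fin 2) (Fin 2) F) = 1 := by
    rw [← Units.val_mul, hee, Units.val_one]
  have hde : ((e : GL (Fin 2) F) : Matrix (Fin 2) (Fin 2) F).det = -1 := by
    rcases invol_cases _ heeM with h | h | h
    · exact absurd (Units.ext h) he1
    · exact absurd (Units.ext (by rw [h]; simp)) he2
    · exact h.2
  have h8 : Nat.card (Q : Subgroup (GL (Fin 2) F)) ≤ 8 := by
    apply card_le_eight hF (Q : Subgroup (GL (Fin 2) F)) Q.2 (e : GL (Fin 2) F) hee hde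
    intro g hg
    have hfE : (⟨g, hg⟩ : (Q : Subgroup (GL (Fin 2) F))) * e * (⟨g, hg⟩ : (Q : Subgroup (GL (Fin 2) F)))⁻¹ ∈ E :=
      hE.conj_mem e heE ⟨g, hg⟩
    set f : GL (Fin 2) F := g * e * g⁻¹ with hf
    have hcomm : (e : GL (Fin 2) F) * f = f * e := by
      have h3 := hEA.1.is_comm.comm ⟨e, heE⟩ ⟨_, hfE⟩
      have h4 := congrArg (fun x : E => ((x : (Q : Subgroup (GL (Fin 2) F))) : GL (Fin 2) F)) h3
      simpa using h4
    have hff : f * f = 1 := by
      rw [hf]
      calc g * e * g⁻¹ * (g * e * g⁻¹) = g * ((e : GL (Fin 2) F) * e) * g⁻¹ := by group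
        _ = 1 := by rw [hee]; group
    have hef : ((e : GL (Fin 2) F) * f) * ((e : GL (Fin 2) F) * f) = 1 := by
      calc ((e : GL (Fin 2) F) * f) * ((e : GL (Fin 2) F) * f)
          = (e : GL (Fin 2) F) * (f * e) * f := by group
        _ = (e : GL (Fin 2) F) * (e * f) * f := by rw [hcomm]
        _ = ((e : GL (Fin 2) F) * e) * (f * f) := by group
        _ = 1 := by rw [hee, hff, one_mul]
    have hdf : (f : Matrix (Fin 2) (Fin 2) F).det = -1 := by
      have h5 : Matrix.GeneralLinearGroup.det f = Matrix.GeneralLinearGroup.det (e : GL (Fin 2) F) := by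
        rw [hf, map_mul, map_mul, map_inv, mul_comm, ← mul_assoc, inv_mul_cancel, one_mul]
      have := congrArg Units.val h5
      exact this.trans hde
    have hres := sl_invol h2 (((e : GL (Fin 2) F) * f : GL (Fin 2) F) : Matrix (Fin 2) (Fin 2) F)
      (by rw [← Units.val_mul, hef, Units.val_one])
      (by rw [Units.val_mul, Matrix.det_mul, hde, hdf]; ring)
    rcases hres with h | h
    · left
      have h6 : (e : GL (Fin 2) F) * f = 1 := Units.ext h
      exact mul_left_cancel (h6.trans hee.symm)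
    · right
      have h6 : (e : GL (Fin 2) F) * f = -1 := Units.ext (by rw [h]; simp)
      apply mul_left_cancel (a := (e : GL (Fin 2) F))
      rw [h6, mul_neg, hee]
  omega

/-- [B3] -/
theorem neaLE_gl2 {F : Type*} [Field F] [Fintype F] (hF : Fintype.card F % 4 = 3)
    (Q : Sylow 2 (GL (Fin 2) F)) :
    NEAle 2 1 (Q : Subgroup (GL (Fin 2) F)) ∧ ∃ c : (Q : Subgroup (GL (Fin 2) F)), c ^ 2 ≠ 1 := by
  have h1 := neaLE_gl2_aux hF Q
  refine ⟨h1, ?_⟩
  by_contra hno
  push Not at hno
  have h16 : 2 ^ 4 ∣ Nat.card (Q : Subgroup (GL (Fin 2) F)) :=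
    Q.pow_dvd_card_of_pow_dvd_card (sixteen_dvd_card_gl2 hF)
  have h16' : 16 ≤ Nat.card (Q : Subgroup (GL (Fin 2) F)) :=
    Nat.le_of_dvd Nat.card_pos h16
  have hcomm : ∀ a b : (Q : Subgroup (GL (Fin 2) F)), a * b = b * a := by
    intro a b
    have ha : a⁻¹ = a := by
      rw [inv_eq_iff_mul_eq_one, ← pow_two]; exact hno a
    have hb : b⁻¹ = b := by
      rw [inv_eq_iff_mul_eq_one, ← pow_two]; exact hno b
    have hab : (a * b)⁻¹ = a * b := by
      rw [inv_eq_iff_mul_eq_one, ← pow_two]; exact hno (a * b)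
    rw [← hab, mul_inv_rev, ha, hb]
  have h2 := h1 ⊤ inferInstance
    ⟨⟨⟨fun a b => Subtype.ext (hcomm a b)⟩⟩, fun a _ => hno a⟩
  rw [Subgroup.card_top] at h2
  omega

end Cfsg.Agent.Lib.Helper60.WrSyl
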