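import Cfsg.Agent.Lib.Helper58.WrSyl.Defs

set_option autoImplicit false
open Cfsg
open scoped MatrixGroups

namespace Cfsg.Agent.Lib.Helper60.WrSyl

open Cfsg.Agent.Lib.Helper58.WrSyl

theorem fact_two_b4 {q : ℕ} (hq : q % 4 = 3) : (q - 1).factorization 2 = 1 := by
  obtain ⟨a, rfl⟩ : ∃ a, q = 4 * a + 3 := ⟨q / 4, by omega⟩
  have h1 : 4 * a + 3 - 1 = 2 * (2 * a + 1) := by omega
  rw [h1, Nat.factorization_mul (by norm_num) (by omega)]
  have h2 : (2 * a + 1).factorization 2 = 0 :=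
    Nat.factorization_eq_zero_of_not_dvd (by omega)
  simp [h2, Nat.Prime.factorization_self Nat.prime_two]

/-- [B4] -/
theorem units_facts {F : Type*} [Field F] [Fintype F] (hF : Fintype.card F % 4 = 3)
    (Q : Sylow 2 Fˣ) : HasNEA 2 1 (Q : Subgroup Fˣ) ∧ NEAle 2 1 (Q : Subgroup Fˣ) := by
  classical
  have hc : Nat.card (Q : Subgroup Fˣ) = 2 := by
    rw [Sylow.card_eq_multiplicity, Nat.card_eq_fintype_card, Fintype.card_units, fact_two_b4 hF]
    norm_num
  constructor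
  · refine ⟨⊤, inferInstance, ⟨⟨⟨fun a b => ?_⟩⟩, fun a _ => ?_⟩, ?_⟩
    · exact Subtype.ext (Subtype.ext (mul_comm _ _))
    · have := pow_card_eq_one' (x := a)
      rwa [hc] at this
    · rw [Subgroup.card_top, hc]; norm_num
  · intro E _ _
    calc Nat.card E ≤ Nat.card (Q : Subgroup Fˣ) := Subgroup.card_le_card_group E
      _ = 2 ^ 1 := by rw [hc]; norm_num

end Cfsg.Agent.Lib.Helper60.WrSyl
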